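import Mathlib
import Groth.Agent.TraceRat.Val

/-!
# Solving valuation data in a finite extension on finitely many pieces

For a continuous family of elements indexed by the valuation rings of a finite extension `L/K` over a base,
finitely many pieces of the valuation rings of `K` carry a single solution each.
-/

set_option autoImplicit false
set_option linter.style.haveILetI false
set_option linter.unusedSectionVars false
set_option maxHeartbeats 400000

universe u

open Filter IsLocalRing

noncomputable section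

namespace Groth.Agent.TraceBound

variable {K L : Type u} [Field K] [Field L] [Algebra K L]

/-- The limit of valuation rings along an ultrafilter. -/
def limitVal {ι : Type*} (u : Ultrafilter ι) (V : ι → ValuationSubring K) : ValuationSubring K where
  carrier := {x | ∀ᶠ i in (u : Filter ι), x ∈ V i}
  one_mem' := Eventually.of_forall fun i => one_mem (V i)
  zero_mem' := Eventually.of_forall fun i => zero_mem (V i)
  add_mem' := fun {x y} hx hy => Eventually.mp hx (hy.mono fun i h1 h2 => add_mem h2 h1)
  mul_mem' := fun {x y} hx hy => Eventually.mp hx (hy.mono fun i h1 h2 => mul_mem h2 h1)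
  neg_mem' := fun {x} hx => Eventually.mono hx fun i h => neg_mem h
  mem_or_inv_mem' := fun x => Ultrafilter.eventually_or.1 (Eventually.of_forall fun i => (V i).mem_or_inv_mem x)

theorem mem_limitVal {ι : Type*} {u : Ultrafilter ι} {V : ι → ValuationSubring K} {x : K} :
    x ∈ limitVal u V ↔ ∀ᶠ i in (u : Filter ι), x ∈ V i := Iff.rfl

/-- Elements of all valuation rings over a valuation ring are integral over it. -/
theorem isIntegral_of_forall (V : ValuationSubring K) [Algebra V L] [IsScalarTower V K L] (x : L)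
    (h : ∀ W : ValuationSubring L, (∀ c ∈ V, algebraMap K L c ∈ W) → x ∈ W) : IsIntegral V x := by
  have h2 : x ∈ (⨅ W : {W : ValuationSubring L // Set.range (algebraMap V L) ⊆ W.toSubring}, W.1.toSubring) :=
    (Subring.mem_iInf).2 fun ⟨W, hW⟩ => h W fun c hc => hW ⟨⟨c, hc⟩, IsScalarTower.algebraMap_apply V K L _⟩
  rw [iInf_valuationSubring_superset] at h2
  have hcl : Subring.closure (Set.range (algebraMap V L)) = (algebraMap V L).range := by
    rw [← RingHom.coe_range, Subring.closure_eq]
  obtain ⟨P, hP, hP0⟩ := (h2 : IsIntegral (Subring.closure (Set.range (algebraMap V L))) _)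
  have hlift : P.map (Subring.closure (Set.range (algebraMap V L))).subtype ∈ Polynomial.lifts (algebraMap V L) := by
    rw [Polynomial.lifts_iff_coeff_lifts]
    intro i
    rw [Polynomial.coeff_map]
    exact (SetLike.ext_iff.1 hcl _).1 (P.coeff i).2
  obtain ⟨Q, hQ, -, hQm⟩ := Polynomial.lifts_and_degree_eq_and_monic hlift (hP.map _)
  refine ⟨Q, hQm, ?_⟩
  rw [← Polynomial.eval_map, hQ, Polynomial.eval_map]
  exact hP0

/-- Traces of elements integral over a valuation ring lie in it. -/
theorem trace_mem [FiniteDimensional K L] (V : ValuationSubring K) (x : L)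
    (h : ∀ W : ValuationSubring L, (∀ c ∈ V, algebraMap K L c ∈ W) → x ∈ W) : Algebra.trace K L x ∈ V := by
  letI : Algebra V L := ((algebraMap K L).comp V.subtype).toAlgebra
  haveI : IsScalarTower V K L := IsScalarTower.of_algebraMap_eq fun _ => rfl
  have htr := Algebra.isIntegral_trace (R := V) (L := K) (isIntegral_of_forall V x h)
  obtain ⟨y, hy⟩ := IsIntegrallyClosed.algebraMap_eq_of_integral (R := V) (K := K) htr
  rw [← hy]
  exact y.2

/-- Normalising a family of elements by the largest one. -/
theorem exists_normalise (V : ValuationSubring K) {ι : Type*} (s : Finset ι) (c : ι → K) {i : ι} (hi : i ∈ s)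
    (hci : c i ≠ 0) : ∃ j ∈ s, c j ≠ 0 ∧ ∀ k ∈ s, c k / c j ∈ V := by
  obtain ⟨j, hj, hmax⟩ := s.exists_max_image (fun k => V.valuation (c k)) ⟨i, hi⟩
  have hj0 : c j ≠ 0 := fun h => hci (by
    have h1 := hmax i hi
    rw [h, map_zero, le_zero_iff, map_eq_zero] at h1
    exact h1)
  refine ⟨j, hj, hj0, fun k hk => ?_⟩
  rw [← V.valuation_le_one_iff, map_div₀, div_le_one₀ ((Valuation.pos_iff _).2 hj0)]
  exact hmax k hk

section Fibre

variable (V : ValuationSubring K) [Algebra V L] [IsScalarTower V K L] [FiniteDimensional K L]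

theorem mem_closure_of_forall {x : L}
    (h : ∀ W : ValuationSubring L, (∀ c ∈ V, algebraMap K L c ∈ W) → x ∈ W) : x ∈ integralClosure V L :=
  isIntegral_of_forall V x h

theorem val_contains_closure (W : ValuationSubring L) (hW : ∀ c ∈ V, algebraMap K L c ∈ W) (c : integralClosure V L) :
    (c : L) ∈ W := by
  letI : Algebra V W := ((algebraMap V L).codRestrict W.toSubring fun c => by
    rw [IsScalarTower.algebraMap_apply V K L]
    exact hW _ c.2).toAlgebra
  haveI : IsScalarTower V W L := IsScalarTower.of_algebraMap_eq fun _ => rfl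
  obtain ⟨y, hy⟩ := IsIntegrallyClosed.algebraMap_eq_of_integral (R := W) (K := L)
    ((c.2 : IsIntegral V (c : L)).tower_top (A := W))
  exact hy ▸ y.2

/-- The maximal ideals of the integral closure of a valuation ring in a finite extension are finite in number. -/
theorem finite_maximal : {n : Ideal (integralClosure V L) | n.IsMaximal}.Finite := by
  classical
  by_contra hinf
  obtain ⟨s, hs, hcard⟩ := Set.Infinite.exists_subset_card_eq hinf (Module.finrank K L + 1)
  have hsep : ∀ n m : s, ∃ e : integralClosure V L, e ∉ n.1 ∧ (m ≠ n → e ∈ m.1) := fun n m => by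
    have hn : n.1.IsMaximal := hs n.2
    have hm : m.1.IsMaximal := hs m.2
    by_cases h : m = n
    · exact ⟨1, hn.isPrime.one_notMem, fun h' => absurd h h'⟩
    · obtain ⟨e, he, hen⟩ := SetLike.not_le_iff_exists.1 fun hle => h (Subtype.ext (hm.eq_of_le hn.ne_top hle))
      exact ⟨e, hen, fun _ => he⟩
  choose e he he' using hsep
  let w : s → integralClosure V L := fun n => ∏ m, e n m
  have hli : LinearIndependent K fun n : s => (w n : L) := by
    rw [Fintype.linearIndependent_iff]
    intro c hc i
    by_contra hci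
    obtain ⟨j, -, hj0, hj⟩ := exists_normalise V Finset.univ c (Finset.mem_univ i) hci
    let d : s → integralClosure V L := fun k => algebraMap V _ ⟨c k / c j, hj k (Finset.mem_univ k)⟩
    have hsum : ∑ k, d k * w k = 0 := by
      apply Subtype.ext
      rw [AddSubmonoidClass.coe_finsetSum, ZeroMemClass.coe_zero]
      have : ∀ k, ((d k * w k : integralClosure V L) : L) = algebraMap K L (c j)⁻¹ * (c k • (w k : L)) := fun k => by
        rw [MulMemClass.coe_mul, Subalgebra.coe_algebraMap, IsScalarTower.algebraMap_apply V K L, Algebra.smul_def,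
          ← mul_assoc, ← map_mul, mul_comm (c j)⁻¹, ← div_eq_mul_inv]
        rfl
      rw [Finset.sum_congr rfl fun k _ => this k, ← Finset.mul_sum, hc, mul_zero]
    have hp : (j.1).IsPrime := (hs j.2).isPrime
    have hdj : d j = 1 := by
      apply Subtype.ext
      rw [Subalgebra.coe_algebraMap, IsScalarTower.algebraMap_apply V K L]
      show algebraMap K L (c j / c j) = 1
      rw [div_self hj0, map_one]
    rw [← Finset.add_sum_erase _ _ (Finset.mem_univ j), hdj, one_mul, add_eq_zero_iff_eq_neg] at hsum
    have hmem : w j ∈ j.1 := by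
      rw [hsum]
      exact neg_mem (sum_mem fun k hk => Ideal.mul_mem_left _ _
        (Ideal.mem_of_dvd _ (Finset.dvd_prod_of_mem _ (Finset.mem_univ j))
          (he' k j (Finset.ne_of_mem_erase hk).symm)))
    obtain ⟨m, -, hm⟩ := (Ideal.IsPrime.prod_mem_iff (p := j.1)).1 hmem
    exact he j m hm
  have := hli.fintype_card_le_finrank
  rw [Fintype.card_coe, hcard] at this
  omega

/-- Localizations of the integral closure of a valuation ring at primes are valuation rings. -/
theorem loc_total [IsFractionRing (integralClosure V L) L] (n : Ideal (integralClosure V L)) [n.IsPrime] (x : L) :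
    x ∈ TraceRat.loc L n ∨ x⁻¹ ∈ TraceRat.loc L n := by
  classical
  by_cases hx : x = 0
  · exact Or.inl (hx ▸ zero_mem _)
  obtain ⟨p, hp, hpx⟩ : IsAlgebraic K x := Algebra.IsAlgebraic.isAlgebraic x
  obtain ⟨i, hi⟩ : ∃ i, p.coeff i ≠ 0 := ⟨_, Polynomial.leadingCoeff_ne_zero.2 hp⟩
  obtain ⟨j, hj, hj0, hjV⟩ := exists_normalise V (Finset.range (p.natDegree + 1)) p.coeff
    (Finset.mem_range.2 (Nat.lt_succ_of_le (Polynomial.le_natDegree_of_ne_zero hi))) hi
  let a : ℕ → L := fun k => algebraMap K L (p.coeff k / p.coeff j)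
  let N := p.natDegree
  have hsum : ∑ k ∈ Finset.range (N + 1), a k * x ^ k = 0 := by
    have : ∀ k, a k * x ^ k = algebraMap K L (p.coeff j)⁻¹ * (algebraMap K L (p.coeff k) * x ^ k) := fun k => by
      simp only [a, div_eq_mul_inv, map_mul]
      ring
    rw [Finset.sum_congr rfl fun k _ => this k, ← Finset.mul_sum]
    rw [Polynomial.aeval_eq_sum_range] at hpx
    simp only [Algebra.smul_def] at hpx
    rw [hpx, mul_zero]
  have haV : ∀ W : ValuationSubring L, (∀ c ∈ V, algebraMap K L c ∈ W) → ∀ k < N + 1, a k ∈ W :=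
    fun W hW k hk => hW _ (hjV k (Finset.mem_range.2 hk))
  let u : ℕ → L := fun k => ∑ i ∈ Finset.range (N + 1 - k), a (k + i) * x ^ i
  have hu : ∀ k ≤ N + 1, x ^ k * u k = - ∑ i ∈ Finset.range k, a i * x ^ i := fun k hk => by
    rw [eq_neg_iff_add_eq_zero, add_comm]
    refine Eq.trans ?_ hsum
    conv_rhs => rw [show N + 1 = k + (N + 1 - k) by omega, Finset.sum_range_add]
    congr 1
    simp only [u, Finset.mul_sum]
    exact Finset.sum_congr rfl fun i _ => by rw [pow_add]; ring
  have huC : ∀ k ≤ N + 1, u k ∈ integralClosure V L ∧ (1 ≤ k → x * u k ∈ integralClosure V L) := fun k hk => by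
    have hmem : ∀ W : ValuationSubring L, (∀ c ∈ V, algebraMap K L c ∈ W) → u k ∈ W ∧ (1 ≤ k → x * u k ∈ W) := by
      intro W hW
      by_cases hxW : x ∈ W
      · have h1 : u k ∈ W := sum_mem fun i hi => mul_mem
          (haV W hW _ (by have := Finset.mem_range.1 hi; omega)) (pow_mem hxW i)
        exact ⟨h1, fun _ => mul_mem hxW h1⟩
      · have hinv : x⁻¹ ∈ W := (W.mem_or_inv_mem x).resolve_left hxW
        have e1 : u k = - ∑ i ∈ Finset.range k, a i * x⁻¹ ^ (k - i) := by
          refine mul_left_cancel₀ (pow_ne_zero k hx) ?_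
          rw [hu k hk, mul_neg, Finset.mul_sum]
          refine congrArg _ (Finset.sum_congr rfl fun i hi => ?_)
          have hik : i < k := Finset.mem_range.1 hi
          rw [inv_pow, show x ^ k = x ^ i * x ^ (k - i) by rw [← pow_add]; congr 1; omega]
          field_simp
        refine ⟨?_, fun hk1 => ?_⟩
        · rw [e1]
          exact neg_mem (sum_mem fun i hi => mul_mem
            (haV W hW i (by have := Finset.mem_range.1 hi; omega)) (pow_mem hinv _))
        · rw [e1, mul_neg, Finset.mul_sum]
          refine neg_mem (sum_mem fun i hi => ?_)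
          have hik : i < k := Finset.mem_range.1 hi
          rw [show k - i = (k - i - 1) + 1 by omega, pow_succ]
          rw [show x * (a i * (x⁻¹ ^ (k - i - 1) * x⁻¹)) = a i * x⁻¹ ^ (k - i - 1) by field_simp]
          exact mul_mem (haV W hW i (by omega)) (pow_mem hinv _)
    exact ⟨mem_closure_of_forall V fun W hW => (hmem W hW).1,
      fun hk1 => mem_closure_of_forall V fun W hW => (hmem W hW).2 hk1⟩
  have hjN : j < N + 1 := Finset.mem_range.1 hj
  have hone : u j = 1 + x * u (j + 1) := by
    show ∑ i ∈ Finset.range (N + 1 - j), a (j + i) * x ^ i = _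
    rw [show N + 1 - j = (N + 1 - (j + 1)) + 1 by omega, Finset.sum_range_succ', add_zero, pow_zero, mul_one,
      add_comm, show a j = 1 by simp only [a]; rw [div_self hj0, map_one]]
    congr 1
    simp only [u, Finset.mul_sum]
    exact Finset.sum_congr rfl fun i _ => by rw [show j + (i + 1) = j + 1 + i by omega, pow_succ]; ring
  let c₁ : integralClosure V L := ⟨u j, (huC j (by omega)).1⟩
  let c₂ : integralClosure V L := ⟨x * u (j + 1), (huC (j + 1) (by omega)).2 (by omega)⟩
  by_cases h2 : c₂ ∈ n
  · left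
    have h1 : c₁ ∉ n := fun h1 => ‹n.IsPrime›.one_notMem (by
      rw [show (1 : integralClosure V L) = c₁ - c₂ from Subtype.ext (by
        show 1 = u j - x * u (j + 1)
        rw [hone]; ring)]
      exact sub_mem h1 h2)
    rcases Nat.eq_zero_or_pos j with hj' | hj'
    · exfalso
      subst hj'
      refine h1 ?_
      have : c₁ = 0 := Subtype.ext (by
        show u 0 = 0
        have := hu 0 (by omega)
        simpa using this)
      rw [this]
      exact n.zero_mem
    · rw [TraceRat.mem_loc]
      refine ⟨⟨x * u j, (huC j (by omega)).2 hj'⟩, c₁, h1, ?_⟩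
      show x = x * u j * (u j)⁻¹
      rw [mul_assoc, mul_inv_cancel₀ (fun h0 => h1 ?_), mul_one]
      rw [show c₁ = 0 from Subtype.ext h0]
      exact n.zero_mem
  · right
    rw [TraceRat.mem_loc]
    refine ⟨⟨u (j + 1), (huC (j + 1) (by omega)).1⟩, c₂, h2, ?_⟩
    show x⁻¹ = u (j + 1) * (x * u (j + 1))⁻¹
    have hu0 : u (j + 1) ≠ 0 := fun h0 => h2 (by
      rw [show c₂ = 0 from Subtype.ext (by show x * u (j + 1) = 0; rw [h0, mul_zero])]
      exact n.zero_mem)
    field_simp

/-- Valuation data over a fixed valuation ring have a common solution. -/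
theorem exists_solution (φ : ValuationSubring L → L)
    (hφ : ∀ W W' : ValuationSubring L, (∀ c ∈ V, algebraMap K L c ∈ W) → W ≤ W' → φ W - φ W' ∈ W') :
    ∃ h, ∀ W : ValuationSubring L, (∀ c ∈ V, algebraMap K L c ∈ W) → h - φ W ∈ W := by
  classical
  haveI : IsFractionRing (integralClosure V L) L := integralClosure.isFractionRing_of_finite_extension K L
  haveI : IsIntegrallyClosed (integralClosure V L) := integralClosure.isIntegrallyClosedOfFiniteExtension K
  let Wn : Ideal (integralClosure V L) → ValuationSubring L := fun n =>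
    if hn : n.IsPrime then { (TraceRat.loc L n).toSubring with mem_or_inv_mem' := fun x => loc_total V n x }
    else ⊤
  have hWn : ∀ n : Ideal (integralClosure V L), ∀ [n.IsPrime], ∀ c, c ∈ Wn n ↔ c ∈ TraceRat.loc L n := fun n _ c => by
    simp only [Wn, dif_pos (‹n.IsPrime›)]
    rfl
  have hbase : ∀ n : Ideal (integralClosure V L), ∀ [n.IsPrime], ∀ c ∈ V, algebraMap K L c ∈ Wn n := fun n _ c hc => by
    rw [hWn]
    rw [show algebraMap K L c = algebraMap (integralClosure V L) L (algebraMap V _ ⟨c, hc⟩) from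
      (IsScalarTower.algebraMap_apply V K L ⟨c, hc⟩).symm]
    exact Subalgebra.algebraMap_mem _ _
  obtain ⟨H, hH⟩ := TraceRat.exists_glue L (finite_maximal V).toFinset (fun n hn => (finite_maximal V).mem_toFinset.1 hn)
    (fun n => φ (Wn n)) fun n hn n' hn' q _ hqn hqn' => by
      haveI := ((finite_maximal V).mem_toFinset.1 hn).isPrime
      haveI := ((finite_maximal V).mem_toFinset.1 hn').isPrime
      refine TraceRat.mem_loc_of_forall L q _ fun W hW => ?_
      have hle : ∀ p : Ideal (integralClosure V L), ∀ [p.IsPrime], q ≤ p → Wn p ≤ W := fun p _ hp x hx => by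
        obtain ⟨b, s, hs, rfl⟩ := (TraceRat.mem_loc L).1 ((hWn p x).1 hx)
        exact hW ((TraceRat.mem_loc L).2 ⟨b, s, fun h => hs (hp h), rfl⟩)
      have h1 := sub_mem (hφ _ W (hbase n) (hle n hqn)) (hφ _ W (hbase n') (hle n' hqn'))
      rwa [sub_sub_sub_cancel_right] at h1
  refine ⟨H, fun W hW => ?_⟩
  obtain ⟨q, hq, hq1, -⟩ := TraceRat.exists_centre (B := integralClosure V L) L W fun b => val_contains_closure V W hW b
  haveI := hq
  obtain ⟨n, hn, hqn⟩ := q.exists_le_maximal hq.ne_top
  haveI := hn.isPrime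
  have hle : Wn n ≤ W := fun x hx => TraceRat.loc_le_valuation (B := integralClosure V L) L (fun b => val_contains_closure V W hW b)
    (fun s hs => hq1 s fun h => hs (hqn h)) ((hWn n x).1 hx)
  have h1 := add_mem (hle ((hWn n _).2 (hH n ((finite_maximal V).mem_toFinset.2 hn)))) (hφ _ W (hbase n) hle)
  rwa [sub_add_sub_cancel] at h1

end Fibre

/-- Continuous valuation data are solved on finitely many pieces. -/
theorem exists_pieces [FiniteDimensional K L] {A : Type u} [CommRing A] (j : A →+* K) (φ : ValuationSubring L → L)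
    (hcont : ∀ W₀ : ValuationSubring L, (∀ r, algebraMap K L (j r) ∈ W₀) → ∃ s : Finset L, (∀ e ∈ s, e ∈ W₀) ∧
      ∀ W : ValuationSubring L, (∀ r, algebraMap K L (j r) ∈ W) → (∀ e ∈ s, e ∈ W) → φ W₀ - φ W ∈ W) :
    ∃ (N : ℕ) (F : Fin N → Finset K) (h : Fin N → L),
      (∀ V : ValuationSubring K, (∀ r, j r ∈ V) → ∃ k, ∀ e ∈ F k, e ∈ V) ∧
      ∀ k (W : ValuationSubring L), (∀ r, algebraMap K L (j r) ∈ W) → (∀ e ∈ F k, algebraMap K L e ∈ W) →
        h k - φ W ∈ W := by
  classical
  let Good : Finset K → Prop := fun F => ∃ h : L, ∀ W : ValuationSubring L, (∀ r, algebraMap K L (j r) ∈ W) →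
    (∀ e ∈ F, algebraMap K L e ∈ W) → h - φ W ∈ W
  have hlocal : ∀ V : ValuationSubring K, (∀ r, j r ∈ V) → ∃ F : Finset K, (∀ e ∈ F, e ∈ V) ∧ Good F := by
    intro V hV
    letI : Algebra V L := ((algebraMap K L).comp V.subtype).toAlgebra
    haveI : IsScalarTower V K L := IsScalarTower.of_algebraMap_eq fun _ => rfl
    obtain ⟨h, hh⟩ := exists_solution V φ fun W W' hW hWW' => by
      obtain ⟨s, hs, hcs⟩ := hcont W fun r => hW _ (hV r)
      exact hcs W' (fun r => hWW' (hW _ (hV r))) fun e he => hWW' (hs e he)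
    by_contra hno
    push Not at hno
    have hbad : ∀ F : Finset V, ∃ W : ValuationSubring L, (∀ r, algebraMap K L (j r) ∈ W) ∧
        (∀ e ∈ F, algebraMap K L (e : K) ∈ W) ∧ h - φ W ∉ W := fun F => by
      by_contra hF
      push Not at hF
      exact hno (F.image Subtype.val) (fun e he => by
        obtain ⟨x, -, rfl⟩ := Finset.mem_image.1 he
        exact x.2) ⟨h, fun W hW hFW => hF W hW fun e he => hFW _ (Finset.mem_image_of_mem _ he)⟩
    choose W hW hFW hbadW using hbad
    let u : Ultrafilter (Finset V) := Ultrafilter.of atTop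
    have hule : (u : Filter (Finset V)) ≤ atTop := Ultrafilter.of_le _
    have hWs : ∀ c ∈ V, algebraMap K L c ∈ limitVal u W := fun c hc => by
      rw [mem_limitVal]
      refine Filter.Eventually.filter_mono hule ((eventually_ge_atTop {(⟨c, hc⟩ : V)}).mono fun F hF => ?_)
      exact hFW F ⟨c, hc⟩ (hF (Finset.mem_singleton_self _))
    obtain ⟨s, hs, hcs⟩ := hcont (limitVal u W) fun r => hWs _ (hV r)
    have hev : ∀ᶠ F in (u : Filter (Finset V)), (∀ e ∈ s, e ∈ W F) ∧ h - φ (limitVal u W) ∈ W F :=
      ((Filter.eventually_all_finset s).2 fun e he => hs e he).and (hh _ hWs)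
    obtain ⟨F, hFs, hFh⟩ := hev.exists
    refine hbadW F ?_
    have h1 := add_mem hFh (hcs (W F) (hW F) hFs)
    rwa [sub_add_sub_cancel] at h1
  have hcover : ∃ T : Finset (Finset K), (∀ F ∈ T, Good F) ∧
      ∀ V : ValuationSubring K, (∀ r, j r ∈ V) → ∃ F ∈ T, ∀ e ∈ F, e ∈ V := by
    by_contra hno
    push Not at hno
    have hbad : ∀ T : Finset {F : Finset K // Good F}, ∃ V : ValuationSubring K, (∀ r, j r ∈ V) ∧
        ∀ F ∈ T, ∃ e ∈ F.1, e ∉ V := fun T => by
      obtain ⟨V, hV, h⟩ := hno (T.image Subtype.val) (fun F hF => by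
        obtain ⟨x, -, rfl⟩ := Finset.mem_image.1 hF
        exact x.2)
      exact ⟨V, hV, fun F hF => h F.1 (Finset.mem_image_of_mem _ hF)⟩
    choose V hV hVT using hbad
    let u : Ultrafilter (Finset {F : Finset K // Good F}) := Ultrafilter.of atTop
    have hule : (u : Filter (Finset {F : Finset K // Good F})) ≤ atTop := Ultrafilter.of_le _
    obtain ⟨F, hF, hgood⟩ := hlocal (limitVal u V) fun r => mem_limitVal.2 (Eventually.of_forall fun T => hV T r)
    have hev : ∀ᶠ T in (u : Filter (Finset {F : Finset K // Good F})),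
        (∀ e ∈ F, e ∈ V T) ∧ (⟨F, hgood⟩ : {F : Finset K // Good F}) ∈ T :=
      ((Filter.eventually_all_finset F).2 fun e he => hF e he).and
        (Filter.Eventually.filter_mono hule ((eventually_ge_atTop {⟨F, hgood⟩}).mono fun T hT => hT (Finset.mem_singleton_self _)))
    obtain ⟨T, hTF, hmem⟩ := hev.exists
    obtain ⟨e, he, heV⟩ := hVT T _ hmem
    exact heV (hTF e he)
  obtain ⟨T, hT, hTcov⟩ := hcover
  choose h hh using fun k : Fin T.card => hT (T.equivFin.symm k).1 (T.equivFin.symm k).2
  refine ⟨T.card, fun k => (T.equivFin.symm k).1, h, fun V hV => ?_, fun k W hW hF => hh k W hW hF⟩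
  obtain ⟨F, hF, hFV⟩ := hTcov V hV
  exact ⟨T.equivFin ⟨F, hF⟩, by simpa only [Equiv.symm_apply_apply] using hFV⟩

end Groth.Agent.TraceBound
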