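import Mathlib
import Groth.Agent.TraceBound.Pieces
import Groth.Agent.TorBound.Main

/-!
# Trace families on models of a finite extension

Principal parts on a model upstairs, multiplied by elements of a basis, have traces which are principal parts on
a sufficiently fine model downstairs.
-/

set_option autoImplicit false
set_option linter.style.haveILetI false
set_option linter.unusedSectionVars false
set_option backward.isDefEq.respectTransparency false
set_option backward.isDefEq.respectTransparency.types false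
set_option maxHeartbeats 800000

universe u

open CategoryTheory CategoryTheory.Limits AlgebraicGeometry TopologicalSpace IsLocalRing Filter
open scoped Topology
open Groth.Agent.FibrePP (O)
open Groth.Agent.NormSeq (Model Nice locRing)
open Groth.Agent.Sol Groth.Agent.RatUp

noncomputable section

namespace Groth.Agent.TraceBound

section Cls

variable {R : CommRingCat.{u}} [IsDomain R] (N : Model (Spec R))

/-- A datum in the base function field with the given class. -/
def IsClsM (g : N.Z → (Spec R).functionField) (z : Coh.HH N.Z (Coh.structureModule N.Z) 1) : Prop :=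
  IsCls (fun y => N.ψ (g y)) z

variable {N} {g g' : N.Z → (Spec R).functionField} {z z' : Coh.HH N.Z (Coh.structureModule N.Z) 1}

theorem IsClsM.datum (h : IsClsM N g z) : IsDatum (locRing N) g := fun x => (h.1 x).mono fun y hy => by
  show g x - g y ∈ locRing N y
  rw [mem_locRing_iff, map_sub]
  exact hy

theorem isClsM_of_datum (hg : IsDatum (locRing N) g) : ∃ z, IsClsM N g z :=
  isCls_of_datum fun x => (hg x).mono fun y hy => by
    have h := (mem_locRing_iff N y _).1 hy
    rwa [map_sub] at h

theorem exists_isClsM (z : Coh.HH N.Z (Coh.structureModule N.Z) 1) : ∃ g, IsClsM N g z := by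
  obtain ⟨g, hg⟩ := exists_isCls z
  let e : (Spec R).functionField ≃+* N.Z.functionField := (asIso N.ψ).commRingCatIsoToRingEquiv
  refine ⟨fun y => e.symm (g y), ?_⟩
  show IsCls (fun y => e (e.symm (g y))) z
  simpa only [RingEquiv.apply_symm_apply] using hg

theorem IsClsM.add (h : IsClsM N g z) (h' : IsClsM N g' z') : IsClsM N (fun y => g y + g' y) (z + z') := by
  show IsCls (fun y => N.ψ (g y + g' y)) (z + z')
  simp only [map_add]
  exact IsCls.add h h'

theorem IsClsM.neg (h : IsClsM N g z) : IsClsM N (fun y => - g y) (-z) := by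
  show IsCls (fun y => N.ψ (- g y)) (-z)
  simp only [map_neg]
  exact IsCls.neg h

theorem IsClsM.zero : IsClsM N (fun _ => 0) 0 := by
  obtain ⟨z, hz⟩ := isClsM_of_datum (N := N) (g := fun _ => 0) fun x => Eventually.of_forall fun y => by
    show (0 : (Spec R).functionField) - 0 ∈ locRing N y
    rw [sub_zero]
    exact zero_mem _
  have h0 : z = 0 := (IsCls.eq_zero_iff hz).2 ⟨0, fun y => by
    show 0 - N.ψ 0 ∈ O y
    rw [map_zero, sub_zero]
    exact zero_mem _⟩
  exact h0 ▸ hz

theorem IsClsM.eq_zero_iff (h : IsClsM N g z) : z = 0 ↔ ∃ k, ∀ y, k - g y ∈ locRing N y := by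
  rw [IsCls.eq_zero_iff h]
  let e : (Spec R).functionField ≃+* N.Z.functionField := (asIso N.ψ).commRingCatIsoToRingEquiv
  constructor
  · rintro ⟨k, hk⟩
    refine ⟨e.symm k, fun y => ?_⟩
    rw [mem_locRing_iff, map_sub]
    show e (e.symm k) - _ ∈ O y
    rw [e.apply_symm_apply]
    exact hk y
  · rintro ⟨k, hk⟩
    refine ⟨N.ψ k, fun y => ?_⟩
    have h1 := (mem_locRing_iff N y _).1 (hk y)
    rwa [map_sub] at h1

theorem IsClsM.smul {A : Type u} [CommRing A] (ρ : A →+* Coh.Γtop N.Z) (r : A) (c : (Spec R).functionField)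
    (hc : scal ρ r = N.ψ c) (h : IsClsM N g z) :
    letI := QCoh.modHH ρ (Coh.structureModule N.Z) 1
    IsClsM N (fun y => c * g y) (r • z) := by
  show IsCls (fun y => N.ψ (c * g y)) _
  simp only [map_mul, ← hc]
  exact IsCls.smul ρ h r

end Cls

variable {R S : CommRingCat.{u}} [IsDomain R] [IsDomain S] [Algebra R S]

local notation "KR" => Scheme.functionField (Spec R)
local notation "KS" => Scheme.functionField (Spec S)
local notation "ι" => algebraMap R (Scheme.functionField (Spec R))
local notation "ιS" => algebraMap S (Scheme.functionField (Spec S))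

variable [Algebra (Spec R).functionField (Spec S).functionField]
  (hcompat : ∀ r : R, algebraMap (Spec R).functionField (Spec S).functionField (algebraMap R _ r) =
    algebraMap S (Spec S).functionField (algebraMap R S r))

include hcompat in
theorem map_mem_of_base [Algebra.IsIntegral R S] (W : ValuationSubring KS) (hW : ∀ r, algebraMap KR KS (ι r) ∈ W)
    (b : S) : ιS b ∈ W := by
  let f : R →+* W := ((algebraMap KR KS).comp (algebraMap R KR)).codRestrict W.toSubring hW
  letI := f.toAlgebra
  obtain ⟨P, hP, hPb⟩ := Algebra.IsIntegral.isIntegral (R := R) b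
  have hint : IsIntegral W (ιS b) := by
    refine ⟨P.map f, hP.map f, ?_⟩
    rw [Polynomial.eval₂_map]
    have e : (algebraMap W KS).comp f = (algebraMap S KS).comp (algebraMap R S) := RingHom.ext fun r => hcompat r
    rw [e, ← Polynomial.hom_eval₂, hPb, map_zero]
  obtain ⟨y, hy⟩ := IsIntegrallyClosed.algebraMap_eq_of_integral (R := W) (K := KS) hint
  exact hy ▸ y.2

variable (N : Model (Spec R)) (M : Model (Spec S))

/-- Trace families of principal parts. -/
def Rel {n : ℕ} (ω : Fin n → (Spec S).functionField) (g : M.Z → (Spec S).functionField)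
    (f : Fin n → N.Z → (Spec R).functionField) : Prop :=
  ∀ (V : ValuationSubring (Spec R).functionField) (y : N.Z), Ctr N V y → ∃ h : (Spec S).functionField,
    (∀ W : ValuationSubring (Spec S).functionField, (∀ c ∈ V, algebraMap _ (Spec S).functionField c ∈ W) →
      ∀ w, Ctr M W w → h - g w ∈ W) ∧
    ∀ i, f i y - Algebra.trace _ _ (ω i * h) ∈ V

variable {N M} {n : ℕ}
variable {ω : Fin n → (Spec S).functionField} {g g' : M.Z → (Spec S).functionField}
  {f f' : Fin n → N.Z → (Spec R).functionField}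

theorem Rel.zero : Rel N M ω (fun _ => 0) (fun _ _ => 0) := fun V y _ =>
  ⟨0, fun W _ w _ => by rw [sub_zero]; exact zero_mem _,
    fun i => by rw [mul_zero, map_zero, sub_zero]; exact zero_mem _⟩

theorem Rel.add (h : Rel N M ω g f) (h' : Rel N M ω g' f') :
    Rel N M ω (fun w => g w + g' w) (fun i y => f i y + f' i y) := fun V y hy => by
  obtain ⟨a, ha, ha'⟩ := h V y hy
  obtain ⟨b, hb, hb'⟩ := h' V y hy
  refine ⟨a + b, fun W hW w hw => ?_, fun i => ?_⟩
  · rw [add_sub_add_comm]
    exact add_mem (ha W hW w hw) (hb W hW w hw)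
  · rw [mul_add, map_add, add_sub_add_comm]
    exact add_mem (ha' i) (hb' i)

theorem Rel.neg (h : Rel N M ω g f) : Rel N M ω (fun w => - g w) (fun i y => - f i y) := fun V y hy => by
  obtain ⟨a, ha, ha'⟩ := h V y hy
  refine ⟨-a, fun W hW w hw => ?_, fun i => ?_⟩
  · rw [← neg_sub']
    exact neg_mem (ha W hW w hw)
  · rw [mul_neg, map_neg, ← neg_sub']
    exact neg_mem (ha' i)

include hcompat in
theorem Rel.smul (h : Rel N M ω g f) (r : R) :
    Rel N M ω (fun w => ιS (algebraMap R S r) * g w) (fun i y => ι r * f i y) := fun V y hy => by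
  obtain ⟨a, ha, ha'⟩ := h V y hy
  refine ⟨ιS (algebraMap R S r) * a, fun W hW w hw => ?_, fun i => ?_⟩
  · rw [← mul_sub]
    exact mul_mem (hw.map_mem _) (ha W hW w hw)
  · rw [show ω i * (ιS (algebraMap R S r) * a) = ι r • (ω i * a) by rw [Algebra.smul_def, hcompat]; ring,
      map_smul, smul_eq_mul, ← mul_sub]
    exact mul_mem (hy.map_mem r) (ha' i)

variable [FiniteDimensional (Spec R).functionField (Spec S).functionField] [Algebra.IsIntegral R S]

include hcompat in
/-- Traces of a solvable datum form solvable data. -/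
theorem Rel.solvable [IsProper N.G] [IsProper M.G] (hNn : Pi1.IsNormalScheme N.Z) (hω : ∀ i, ∃ b, ιS b = ω i)
    (h : Rel N M ω g f) {k : KS} (hk : ∀ w, k - g w ∈ locRing M w) (i : Fin n) (hf : IsDatum (locRing N) (f i))
    (y : N.Z) : Algebra.trace KR KS (ω i * k) - f i y ∈ locRing N y := by
  refine mem_locRing_of_forall N y (hNn y).2 _ fun V hV => ?_
  obtain ⟨y', hy', hy'V⟩ := exists_ctr_specializes N V hV
  obtain ⟨a, ha, ha'⟩ := h V y' hy'V
  have h1 : f i y - f i y' ∈ V := by
    obtain ⟨U, hU, hUo, hyU⟩ := eventually_nhds_iff.1 (hf y)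
    exact hy'V.1 (hU y' (hy'.mem_open hUo hyU))
  have h2 : Algebra.trace KR KS (ω i * k) - Algebra.trace KR KS (ω i * a) ∈ V := by
    rw [← map_sub, ← mul_sub]
    refine trace_mem V _ fun W hW => ?_
    have hWb := map_mem_of_base hcompat W fun r => hW _ (hy'V.map_mem r)
    obtain ⟨w, hw⟩ := exists_ctr M W hWb
    obtain ⟨b, hb⟩ := hω i
    refine mul_mem (hb ▸ hWb b) ?_
    rw [← sub_sub_sub_cancel_right k a (g w)]
    exact sub_mem (hw.1 (hk w)) (ha W hW w hw)
  have h3 := sub_mem (sub_mem h2 (ha' i)) h1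
  rw [show Algebra.trace KR KS (ω i * k) - f i y =
    Algebra.trace KR KS (ω i * k) - Algebra.trace KR KS (ω i * a) - (f i y' - Algebra.trace KR KS (ω i * a)) -
      (f i y - f i y') by ring]
  exact h3

include hcompat in
/-- A multiple of a datum with solvable traces is solvable. -/
theorem Rel.kernel [IsProper N.G] [IsProper M.G] (hMn : Pi1.IsNormalScheme M.Z) (h : Rel N M ω g f)
    (hg : IsDatum (locRing M) g) (ω' : Fin n → KS) (hdual : ∀ x : KS, x = ∑ i, Algebra.trace KR KS (ω i * x) • ω' i)
    {d : S} (hd : ∀ i, ∃ b, ιS b = ιS d * ω' i) (k : Fin n → KR) (hk : ∀ i y, k i - f i y ∈ locRing N y) (w : M.Z) :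
    ιS d * ∑ i, k i • ω' i - ιS d * g w ∈ locRing M w := by
  refine mem_locRing_of_forall M w (hMn w).2 _ fun W hW => ?_
  obtain ⟨w', hw', hw'W⟩ := exists_ctr_specializes M W hW
  have hbase : ∀ r, ι r ∈ W.comap (algebraMap KR KS) := fun r => by
    show algebraMap KR KS (ι r) ∈ W
    rw [hcompat]
    exact hw'W.map_mem _
  obtain ⟨y, hy⟩ := exists_ctr N (W.comap (algebraMap KR KS)) hbase
  obtain ⟨a, ha, ha'⟩ := h _ y hy
  have h1 : a - g w' ∈ W := ha W (fun c hc => hc) w' hw'W
  have h2 : g w - g w' ∈ W := by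
    obtain ⟨U, hU, hUo, hwU⟩ := eventually_nhds_iff.1 (hg w)
    exact hw'W.1 (hU w' (hw'.mem_open hUo hwU))
  have h3 : ιS d * ∑ i, k i • ω' i - ιS d * a ∈ W := by
    conv in a => rw [hdual a]
    rw [← mul_sub, ← Finset.sum_sub_distrib, Finset.mul_sum]
    refine sum_mem fun i _ => ?_
    obtain ⟨b, hb⟩ := hd i
    rw [← sub_smul, Algebra.smul_def, mul_left_comm, ← hb]
    refine mul_mem ?_ (hw'W.map_mem b)
    have h4 : k i - Algebra.trace KR KS (ω i * a) ∈ W.comap (algebraMap KR KS) := by
      rw [← sub_add_sub_cancel (k i) (f i y)]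
      exact add_mem (hy.1 (hk i y)) (ha' i)
    exact h4
  rw [show ιS d * ∑ i, k i • ω' i - ιS d * g w =
    (ιS d * ∑ i, k i • ω' i - ιS d * a) + ιS d * (a - g w') - ιS d * (g w - g w') by ring]
  exact sub_mem (add_mem h3 (mul_mem (hw'W.map_mem d) h1)) (mul_mem (hw'W.map_mem d) h2)

/-- Compatible valuation pieces of a datum. -/
def IsPieces (M : Model (Spec S)) (g : M.Z → (Spec S).functionField) (m : ℕ)
    (F : Fin m → Finset (Spec R).functionField) (h : Fin m → (Spec S).functionField) : Prop :=
  (∀ V : ValuationSubring (Spec R).functionField, (∀ r, algebraMap R _ r ∈ V) → ∃ k, ∀ e ∈ F k, e ∈ V) ∧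
  ∀ k (W : ValuationSubring (Spec S).functionField),
    (∀ r, algebraMap (Spec R).functionField (Spec S).functionField (algebraMap R _ r) ∈ W) →
    (∀ e ∈ F k, algebraMap _ (Spec S).functionField e ∈ W) → ∀ w, Ctr M W w → h k - g w ∈ W

include hcompat in
theorem exists_isPieces [IsProper M.G] (hg : IsDatum (locRing M) g) :
    ∃ (m : ℕ) (F : Fin m → Finset KR) (h : Fin m → KS), IsPieces M g m F h := by
  classical
  haveI : IsSeparated M.G := inferInstance
  let φ : ValuationSubring KS → KS := fun W => if hW : ∀ b, ιS b ∈ W then g (exists_ctr M W hW).choose else 0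
  have hφ : ∀ W, (∀ b, ιS b ∈ W) → ∀ w, Ctr M W w → φ W = g w := fun W hW w hw => by
    simp only [φ, dif_pos hW]
    exact congrArg g (Ctr.unique M (exists_ctr M W hW).choose_spec hw)
  obtain ⟨m, F, h, hcov, hsol⟩ := exists_pieces (K := KR) (L := KS) (A := R) (algebraMap R KR) φ fun W₀ hW₀ => by
    obtain ⟨w₀, hw₀⟩ := exists_ctr M W₀ (map_mem_of_base hcompat W₀ hW₀)
    obtain ⟨U₀, hgood, hU₀, hw₀U₀⟩ := eventually_nhds_iff.1 (hg w₀)
    obtain ⟨U, hU, hwU, hle⟩ := exists_isAffineOpen_mem_and_subset (x := w₀) (U := ⟨U₀, hU₀⟩) hw₀U₀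
    have hgen : genericPoint M.Z ∈ U := generic_mem M hwU
    have hfin : (BlowUpLib.strHom (A := S) M.G U).FiniteType := by
      refine RingHom.FiniteType.comp (f := (Scheme.ΓSpecIso S).inv.hom)
        (M.G.finiteType_appLE (isAffineOpen_top _) hU le_top) ?_
      exact RingHom.FiniteType.of_surjective _ (ConcreteCategory.bijective_of_isIso (Scheme.ΓSpecIso S).inv).2
    letI := (BlowUpLib.strHom (A := S) M.G U).toAlgebra
    haveI : Algebra.FiniteType S Γ(M.Z, U) := hfin
    obtain ⟨s, hs⟩ := (Algebra.FiniteType.out : (⊤ : Subalgebra S Γ(M.Z, U)).FG)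
    refine ⟨s.image (ev M hgen), fun e he => ?_, fun W hW hsW => ?_⟩
    · obtain ⟨x, -, rfl⟩ := Finset.mem_image.1 he
      exact hw₀.1 (ev_mem M hgen hwU x)
    have hWb := map_mem_of_base hcompat W hW
    have hall : ∀ e, ev M hgen e ∈ W := fun e => by
      have hmem : e ∈ Algebra.adjoin S (s : Set Γ(M.Z, U)) := by rw [hs]; trivial
      induction hmem using Algebra.adjoin_induction with
      | mem x hx => exact hsW _ (Finset.mem_image_of_mem _ hx)
      | algebraMap b =>
        show M.toKHom _ (M.Z.presheaf.germ U _ hgen (BlowUpLib.strHom (A := S) M.G U b)) ∈ W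
        rw [RatSing.germ_strHom M hgen, RatSing.toK_strStalk]
        exact hWb b
      | add x x' _ _ hx hx' => rw [map_add]; exact add_mem hx hx'
      | mul x x' _ _ hx hx' => rw [map_mul]; exact mul_mem hx hx'
    let i : Γ(M.Z, U) ⟶ CommRingCat.of W := CommRingCat.ofHom ((ev M hgen).codRestrict W.toSubring hall)
    have hctr : Ctr M W ((Spec.map i ≫ hU.fromSpec) (closedPoint (CommRingCat.of W))) := by
      refine ctr_of_lift M W (Spec.map i ≫ hU.fromSpec) ?_
      have hi : i ≫ CommRingCat.ofHom W.subtype =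
          M.Z.presheaf.germ U _ hgen ≫ M.toKHom (genericPoint M.Z) := rfl
      rw [← Spec.map_comp_assoc, hi, Spec.map_comp, Category.assoc, ← M.spec_toK (genericPoint M.Z)]
      congr 1
      exact hU.fromSpecStalk_eq_fromSpecStalk hgen
    have hmemU : (Spec.map i ≫ hU.fromSpec) (closedPoint (CommRingCat.of W)) ∈ U := by
      show _ ∈ (U : Set M.Z)
      rw [← hU.range_fromSpec]
      exact ⟨_, rfl⟩
    rw [hφ W₀ (map_mem_of_base hcompat W₀ hW₀) w₀ hw₀, hφ W hWb _ hctr]
    exact hctr.1 (hgood _ (hle hmemU))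
  refine ⟨m, F, h, hcov, fun k W hW hF w hw => ?_⟩
  rw [← hφ W (map_mem_of_base hcompat W hW) w hw]
  exact hsol k W hW hF

include hcompat in
/-- On a model deciding the pieces the traces form data. -/
theorem exists_rel [IsProper N.G] (hNn : Pi1.IsNormalScheme N.Z) [IsProper M.G] (hω : ∀ i, ∃ b, ιS b = ω i) {m : ℕ}
    {F : Fin m → Finset KR} {h : Fin m → KS} (hp : IsPieces M g m F h) (hdec : ∀ k, ∀ e ∈ F k, Dec N e) :
    ∃ f : Fin n → N.Z → KR, (∀ i, IsDatum (locRing N) (f i)) ∧ Rel N M ω g f := by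
  classical
  have hk : ∀ y : N.Z, ∃ k, ∀ e ∈ F k, e ∈ locRing N y := fun y => by
    obtain ⟨V, hV⟩ := exists_valuation N y
    obtain ⟨k, hk⟩ := hp.1 V fun r => hV.map_mem r
    exact ⟨k, fun e he => hV.mem (hdec k e he) (hk e he)⟩
  choose k hk using hk
  refine ⟨fun i y => Algebra.trace KR KS (ω i * h (k y)), fun i y => ?_, fun V y hy => ⟨h (k y), fun W hW w hw => ?_,
    fun i => by rw [sub_self]; exact zero_mem _⟩⟩
  · filter_upwards [(Filter.eventually_all_finset (F (k y))).2 fun e he => openMem_locRing N y e (hk y e he)]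
      with z hz
    refine mem_locRing_of_forall N z (hNn z).2 _ fun V hV => ?_
    rw [← map_sub, ← mul_sub]
    refine trace_mem V _ fun W hW => ?_
    have hbase : ∀ r, algebraMap KR KS (ι r) ∈ W := fun r => hW _ (hV (RatSing.map_mem_locRing N z r))
    have hWb := map_mem_of_base hcompat W hbase
    obtain ⟨w, hw⟩ := exists_ctr M W hWb
    obtain ⟨b, hb⟩ := hω i
    refine mul_mem (hb ▸ hWb b) ?_
    rw [← sub_sub_sub_cancel_right (h (k y)) (h (k z)) (g w)]
    exact sub_mem (hp.2 (k y) W hbase (fun e he => hW _ (hV (hz e he))) w hw)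
      (hp.2 (k z) W hbase (fun e he => hW _ (hV (hk z e he))) w hw)
  · exact hp.2 (k y) W (fun r => hW _ (hy.map_mem r)) (fun e he => hW _ (hy.1 (hk y e he))) w hw

end Groth.Agent.TraceBound
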