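import Mathlib
import Groth.Agent.TraceBound.Model
import Groth.Agent.TorBound.Bound
import Groth.Agent.QCoh.DevissageP
import Groth.Agent.S0002

/-!
# Bounded cohomology of modifications goes up along finite separable extensions
-/

set_option autoImplicit false
set_option linter.style.haveILetI false
set_option linter.unusedSectionVars false
set_option backward.isDefEq.respectTransparency false
set_option backward.isDefEq.respectTransparency.types false
set_option maxHeartbeats 1000000

universe u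

open CategoryTheory CategoryTheory.Limits AlgebraicGeometry TopologicalSpace IsLocalRing Filter
open scoped Topology
open Groth.Agent.FibrePP (O)
open Groth.Agent.NormSeq (Model Nice locRing)
open Groth.Agent.Sol Groth.Agent.RatUp

noncomputable section

namespace Groth.Agent.TraceBound

variable {R S : CommRingCat.{u}} [IsDomain R] [IsDomain S] [Algebra R S]
  [Algebra (Spec R).functionField (Spec S).functionField]
  [Algebra R (Spec S).functionField] [IsScalarTower R (Spec R).functionField (Spec S).functionField]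
  [IsScalarTower R S (Spec S).functionField]

local notation "KR" => Scheme.functionField (Spec R)
local notation "KS" => Scheme.functionField (Spec S)
local notation "ι" => algebraMap R (Scheme.functionField (Spec R))
local notation "ιS" => algebraMap S (Scheme.functionField (Spec S))

variable [IsNoetherianRing R] [IsNoetherianRing S] [IsIntegrallyClosed S]
  [FiniteDimensional (Spec R).functionField (Spec S).functionField]
  [Algebra.IsSeparable (Spec R).functionField (Spec S).functionField] [Module.Finite R S]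

theorem compat (r : R) : algebraMap KR KS (ι r) = ιS (algebraMap R S r) := by
  rw [← IsScalarTower.algebraMap_apply R KR KS, ← IsScalarTower.algebraMap_apply R S KS]

/-- A dual pair of bases with a common denominator. -/
theorem exists_basis :
    ∃ (n : ℕ) (ω ω' : Fin n → KS) (d : S), d ≠ 0 ∧ (∀ i, ∃ b, ιS b = ω i) ∧
      (∀ x : KS, x = ∑ i, Algebra.trace KR KS (ω i * x) • ω' i) ∧ ∀ i, ∃ b, ιS b = ιS d * ω' i := by
  classical
  obtain ⟨s, b, hb⟩ := FiniteDimensional.exists_is_basis_integral R KR KS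
  let b' := (Algebra.traceForm KR KS).dualBasis (traceForm_nondegenerate KR KS) b
  let e := (Fintype.equivFin s).symm
  choose p q hq hpq using fun i => IsFractionRing.div_surjective (A := S) (b' (e i))
  refine ⟨Fintype.card s, fun i => b (e i), fun i => b' (e i), ∏ i, q i,
    Finset.prod_ne_zero_iff.2 fun i _ => nonZeroDivisors.ne_zero (hq i),
    fun i => IsIntegrallyClosed.algebraMap_eq_of_integral ((hb (e i)).tower_top (A := S)), fun x => ?_, fun i => ?_⟩
  · conv_lhs => rw [← b'.sum_repr x]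
    rw [← e.sum_comp fun j => b'.repr x j • b' j]
    refine Finset.sum_congr rfl fun i _ => ?_
    rw [LinearMap.BilinForm.dualBasis_repr_apply, Algebra.traceForm_apply, mul_comm]
  · refine ⟨(∏ j ∈ Finset.univ.erase i, q j) * p i, ?_⟩
    have h0 : ιS (q i) ≠ 0 :=
      (map_ne_zero_iff _ (IsFractionRing.injective S KS)).2 (nonZeroDivisors.ne_zero (hq i))
    show _ = _ * b' (e i)
    rw [← Finset.mul_prod_erase Finset.univ q (Finset.mem_univ i), map_mul, map_mul, ← hpq i]
    field_simp

/-- Families of trace classes of a finite set of classes on a common model. -/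
theorem exists_model_rel (hR : Nice (Spec R)) {n : ℕ} {ω : Fin n → KS} (hω : ∀ i, ∃ b, ιS b = ω i)
    (M : Model (Spec S)) [IsProper M.G] {m : ℕ} (z : Fin m → Coh.HH M.Z (Coh.structureModule M.Z) 1) :
    ∃ (N : Model (Spec R)) (_ : IsProper N.G) (_ : Pi1.IsNormalScheme N.Z),
      (∃ U : (Spec R).Opens, (U : Set (Spec R)).Nonempty ∧ IsIso (N.G ∣_ U)) ∧
      ∀ l, ∃ g, IsClsM M g (z l) ∧ ∃ f : Fin n → N.Z → KR, (∀ i, IsDatum (locRing N) (f i)) ∧ Rel N M ω g f := by
  classical
  choose g hg using fun l => exists_isClsM (z l)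
  choose mm F h hp using fun l => exists_isPieces (R := R) (S := S) (M := M) (g := g l) compat (hg l).datum
  let T : Finset KR := Finset.univ.biUnion fun l => Finset.univ.biUnion fun k => F l k
  let M₀ : Model (Spec R) := { Z := Spec R, G := 𝟙 _, gen := rfl, bir := inferInstance }
  obtain ⟨Y, q, hYi, hgen, hbir, hY, hP, hdec⟩ := exists_dec M₀ hR T
  haveI := hYi
  haveI := hP
  let N := M₀.comp q hgen hbir
  haveI : IsProper N.G := inferInstanceAs (IsProper (q ≫ 𝟙 _))
  refine ⟨N, inferInstance, hY.normal, exists_isIso_restrict hR N.G N.bir, fun l => ?_⟩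
  obtain ⟨f, hf, hrel⟩ := exists_rel (N := N) compat hY.normal hω (hp l) fun k e he =>
    hdec e (Finset.mem_biUnion.2 ⟨l, Finset.mem_univ _, Finset.mem_biUnion.2 ⟨k, Finset.mem_univ _, he⟩⟩)
  exact ⟨g l, hg l, f, hf, hrel⟩

variable (M : Model (Spec S)) (N : Model (Spec R))

/-- The classes of the trace families of a class. -/
def TrCls {n : ℕ} (ω : Fin n → KS) (z : Coh.HH M.Z (Coh.structureModule M.Z) 1)
    (v : Fin n → Coh.HH N.Z (Coh.structureModule N.Z) 1) : Prop :=
  ∃ g, IsClsM M g z ∧ ∃ f : Fin n → N.Z → KR, Rel N M ω g f ∧ ∀ i, IsClsM N (f i) (v i)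

variable {M N}

theorem TrCls.zero {n : ℕ} {ω : Fin n → KS} : TrCls M N ω 0 0 :=
  ⟨_, IsClsM.zero, _, Rel.zero, fun _ => IsClsM.zero⟩

theorem TrCls.add {n : ℕ} {ω : Fin n → KS} {z z' v v'} (h : TrCls M N ω z v) (h' : TrCls M N ω z' v') :
    TrCls M N ω (z + z') (v + v') := by
  obtain ⟨g, hg, f, hf, hfv⟩ := h
  obtain ⟨g', hg', f', hf', hfv'⟩ := h'
  exact ⟨_, hg.add hg', _, hf.add hf', fun i => (hfv i).add (hfv' i)⟩

theorem TrCls.neg {n : ℕ} {ω : Fin n → KS} {z v} (h : TrCls M N ω z v) : TrCls M N ω (-z) (-v) := by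
  obtain ⟨g, hg, f, hf, hfv⟩ := h
  exact ⟨_, hg.neg, _, hf.neg, fun i => (hfv i).neg⟩

theorem TrCls.smul {n : ℕ} {ω : Fin n → KS} {z v} (h : TrCls M N ω z v) (r : R) :
    letI := QCoh.modHH ((Coh.toGlobal M.G).comp (algebraMap R S)) (Coh.structureModule M.Z) 1
    letI := QCoh.modHH (Coh.toGlobal N.G) (Coh.structureModule N.Z) 1
    TrCls M N ω (r • z) (r • v) := by
  let := QCoh.modHH ((Coh.toGlobal M.G).comp (algebraMap R S)) (Coh.structureModule M.Z) 1
  let := QCoh.modHH (Coh.toGlobal N.G) (Coh.structureModule N.Z) 1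
  obtain ⟨g, hg, f, hf, hfv⟩ := h
  exact ⟨_, hg.smul _ r (ιS (algebraMap R S r)) (TorBound.scal_eq M (algebraMap R S r)), _,
    hf.smul compat r, fun i => (hfv i).smul _ r (ι r) (TorBound.scal_eq N r)⟩

theorem TrCls.eq_zero [IsProper N.G] [IsProper M.G] (hNn : Pi1.IsNormalScheme N.Z) {n : ℕ} {ω : Fin n → KS}
    (hω : ∀ i, ∃ b, ιS b = ω i) {v} (h : TrCls M N ω 0 v) : v = 0 := by
  obtain ⟨g, hg, f, hf, hfv⟩ := h
  obtain ⟨k, hk⟩ := hg.eq_zero_iff.1 rfl
  exact funext fun i =>
    (hfv i).eq_zero_iff.2 ⟨_, fun y => hf.solvable compat hNn hω hk i (hfv i).datum y⟩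

theorem TrCls.smul_eq_zero [IsProper N.G] [IsProper M.G] (hMn : Pi1.IsNormalScheme M.Z) {n : ℕ} {ω ω' : Fin n → KS}
    (hdual : ∀ x : KS, x = ∑ i, Algebra.trace KR KS (ω i * x) • ω' i) {d : S}
    (hd : ∀ i, ∃ b, ιS b = ιS d * ω' i) {z} (h : TrCls M N ω z 0) :
    letI := QCoh.modHH (Coh.toGlobal M.G) (Coh.structureModule M.Z) 1
    d • z = 0 := by
  let := QCoh.modHH (Coh.toGlobal M.G) (Coh.structureModule M.Z) 1
  obtain ⟨g, hg, f, hf, hfv⟩ := h
  choose k hk using fun i => (hfv i).eq_zero_iff.1 rfl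
  exact (hg.smul _ d (ιS d) (TorBound.scal_eq M d)).eq_zero_iff.2
    ⟨_, fun w => hf.kernel compat hMn hg.datum ω' hdual hd k hk w⟩

theorem length_le [IsProper M.G] (hMn : Pi1.IsNormalScheme M.Z) (hR : Nice (Spec R)) {n : ℕ} {ω ω' : Fin n → KS}
    (hω : ∀ i, ∃ b, ιS b = ω i) (hdual : ∀ x : KS, x = ∑ i, Algebra.trace KR KS (ω i * x) • ω' i) {d : S}
    (hd : ∀ i, ∃ b, ιS b = ιS d * ω' i) {NA : ℕ}
    (hA : ∀ (N : Model (Spec R)) [IsProper N.G], Pi1.IsNormalScheme N.Z →
      (∃ U : (Spec R).Opens, (U : Set (Spec R)).Nonempty ∧ IsIso (N.G ∣_ U)) →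
      letI := QCoh.modHH (Coh.toGlobal N.G) (Coh.structureModule N.Z) 1
      Module.length R (Coh.HH N.Z (Coh.structureModule N.Z) 1) ≤ (NA : ℕ∞)) :
    letI := QCoh.modHH (Coh.toGlobal M.G) (Coh.structureModule M.Z) 1
    Module.length S (Coh.HH M.Z (Coh.structureModule M.Z) 1) ≤
      Module.length S ↥(Submodule.torsionBy S (Coh.HH M.Z (Coh.structureModule M.Z) 1) d) + (n * NA : ℕ) := by
  classical
  let instS : Module S (Coh.HH M.Z (Coh.structureModule M.Z) 1) :=
    QCoh.modHH (Coh.toGlobal M.G) (Coh.structureModule M.Z) 1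
  let instR : Module R (Coh.HH M.Z (Coh.structureModule M.Z) 1) :=
    QCoh.modHH ((Coh.toGlobal M.G).comp (algebraMap R S)) (Coh.structureModule M.Z) 1
  haveI : IsScalarTower R S (Coh.HH M.Z (Coh.structureModule M.Z) 1) :=
    IsScalarTower.of_algebraMap_smul fun r x => rfl
  have hfinS : Module.Finite S (Coh.HH M.Z (Coh.structureModule M.Z) 1) := by
    letI : M.Z.Over (Spec (CommRingCat.of S)) := ⟨M.G⟩
    haveI : IsProper (M.Z ↘ Spec (CommRingCat.of S)) := ‹IsProper M.G›
    haveI : IsLocallyNoetherian M.Z := LocallyOfFiniteType.isLocallyNoetherian M.G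
    exact S0002.result S M.Z _ QCoh.isCoh_structureModule' 1
  haveI := hfinS
  haveI : Module.Finite R (Coh.HH M.Z (Coh.structureModule M.Z) 1) := Module.Finite.trans S _
  obtain ⟨m, z, hz⟩ := Module.Finite.exists_fin (R := R) (M := Coh.HH M.Z (Coh.structureModule M.Z) 1)
  obtain ⟨N, hNP, hNn, hNU, hrel⟩ := exists_model_rel hR hω M z
  haveI := hNP
  let := QCoh.modHH (Coh.toGlobal N.G) (Coh.structureModule N.Z) 1
  have hex : ∀ x, ∃ v, TrCls M N ω x v := fun x => by
    have hx : x ∈ Submodule.span R (Set.range z) := hz ▸ Submodule.mem_top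
    induction hx using Submodule.span_induction with
    | mem x hx =>
      obtain ⟨l, rfl⟩ := hx
      obtain ⟨g, hg, f, hf, hr⟩ := hrel l
      choose v hv using fun i => isClsM_of_datum (hf i)
      exact ⟨v, g, hg, f, hr, hv⟩
    | zero => exact ⟨0, TrCls.zero⟩
    | add x y _ _ hx hy =>
      obtain ⟨v, hv⟩ := hx
      obtain ⟨w, hw⟩ := hy
      exact ⟨v + w, hv.add hw⟩
    | smul r x _ hx =>
      obtain ⟨v, hv⟩ := hx
      exact ⟨r • v, hv.smul r⟩
  choose v hv using hex
  have huniq : ∀ {x w}, TrCls M N ω x w → v x = w := fun {x w} hw => by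
    have h := (hv x).add hw.neg
    rw [add_neg_cancel] at h
    exact add_neg_eq_zero.1 (TrCls.eq_zero hNn hω h)
  let Φ : Coh.HH M.Z (Coh.structureModule M.Z) 1 →ₗ[R] (Fin n → Coh.HH N.Z (Coh.structureModule N.Z) 1) :=
    { toFun := v
      map_add' := fun x y => huniq ((hv x).add (hv y))
      map_smul' := fun r x => huniq ((hv x).smul r) }
  let T : Submodule S (Coh.HH M.Z (Coh.structureModule M.Z) 1) :=
    Submodule.torsionBy S (Coh.HH M.Z (Coh.structureModule M.Z) 1) d
  have hker : LinearMap.ker Φ ≤ T.restrictScalars R := fun x hx => by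
    have h0 : v x = 0 := hx
    have h1 := hv x
    rw [h0] at h1
    exact TrCls.smul_eq_zero hMn hdual hd h1
  have h1 : Module.length R (Coh.HH M.Z (Coh.structureModule M.Z) 1 ⧸ T.restrictScalars R) ≤ (n * NA : ℕ) := by
    refine (Module.length_le_of_surjective (Submodule.factor hker) (Submodule.factor_surjective hker)).trans ?_
    rw [Φ.quotKerEquivRange.length_eq]
    refine (Module.length_le_of_injective (LinearMap.range Φ).subtype (Submodule.injective_subtype _)).trans ?_
    rw [Module.length_pi, ENat.card_eq_coe_fintype_card, Fintype.card_fin, Nat.cast_mul]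
    exact mul_le_mul_right (hA N hNn hNU) _
  have h2 : Module.length S (Coh.HH M.Z (Coh.structureModule M.Z) 1 ⧸ T) ≤ (n * NA : ℕ) := by
    rw [← (Submodule.topEquiv (R := S) (M := Coh.HH M.Z (Coh.structureModule M.Z) 1 ⧸ T)).length_eq]
    refine (Submodule.length_le_length_restrictScalars R _).trans ?_
    rw [Submodule.restrictScalars_top, Submodule.topEquiv.length_eq,
      ← (Submodule.Quotient.restrictScalarsEquiv R T).length_eq]
    exact h1
  rw [Module.length_eq_add_of_exact T.subtype T.mkQ T.injective_subtype T.mkQ_surjective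
    (LinearMap.exact_subtype_mkQ T)]
  exact add_le_add le_rfl h2

end Groth.Agent.TraceBound
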